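import Cfsg.Agent.H13.Sink.Move
import Cfsg.Agent.H63.InvSub.CoreNe

/-!
The maximal subgroups of a minimal counterexample to the subnormality of `sT d` have nontrivial
Fitting subgroup.
-/

set_option autoImplicit false

namespace H66.Sink

open Cfsg Cfsg.Comp H13.Sink
open scoped commutatorElement

universe u

variable {G : Type u} [Group G] [Finite G]

/-- With trivial Fitting subgroup, the layer of `M d` is the layer of its meet with `M f`, for a
member `f` of `M d`. -/
theorem layer_inf_eq (S : Sys G) {d f : G} (hd : d ∈ S.K) (hf : f ∈ S.K) (hfd : f ∈ S.M d)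
    (hF : fittingSubgroup ↥(S.M d) = ⊥) :
    (layer ↥(S.M d ⊓ S.M f : Subgroup G)).map (S.M d ⊓ S.M f).subtype =
      (layer ↥(S.M d)).map (S.M d).subtype := by
  set A := S.M d with hA
  set f' : ↥A := ⟨f, hfd⟩ with hf'
  set V := (A ⊓ S.M f).subgroupOf A with hV
  have hmem : ∀ x : ↥A, (x : G) ∈ S.M f → x ∈ V := fun x hx => ⟨x.2, hx⟩
  have hTV : sT f' ≤ V := sT_le_iff.2
    ⟨hmem _ (S.mem f hf), fun x hx => hmem x (S.sink_le f hf (mem_sink_subtype.1 hx))⟩
  have hsn : (sT f').IsSubnormal := S.subT (S.ne_top hd) f'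
  have hlay : layer ↥A ≤ V := by
    refine layer_le_iff.2 fun L hL => ?_
    rcases component_le_or_commute hL hsn with h | h
    · exact h.trans hTV
    · intro x hx
      refine hmem x (S.cent_le f hf (Subgroup.mem_centralizer_singleton_iff.2 ?_))
      have h1 := Subgroup.mem_centralizer_iff.1
        (Subgroup.commutator_eq_bot_iff_le_centralizer.1 h hx) f' (mem_sT_self f')
      exact (congrArg Subtype.val h1).symm
  have h := H63.InvSub.layer_eq_of_le hF V hlay
  rw [← h, H63.InvSub.map_subgroupOf_aux (inf_le_left : A ⊓ S.M f ≤ A), layer_map_equiv]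

/-- The maximal subgroups of a minimal counterexample have nontrivial Fitting subgroup. -/
theorem coreNe (S : Sys G) : S.CoreNe := by
  intro a ha hF0
  rw [fitOf, Subgroup.map_eq_bot_iff_of_injective _ Subtype.coe_injective] at hF0
  obtain ⟨d, hd, f, hf, hne, hdf, hfd⟩ := S.mutual_pair
  have hbot : ∀ x ∈ S.K, fittingSubgroup ↥(S.M x) = ⊥ := by
    intro x hx
    obtain ⟨g, rfl⟩ := S.trans a ha x hx
    rw [S.conj_M a ha g]
    exact H63.InvSub.fitting_map_conj_eq_bot g hF0
  have hd' := layer_inf_eq S hd hf hfd (hbot d hd)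
  have hf' := layer_inf_eq S hf hd hdf (hbot f hf)
  rw [inf_comm (S.M f) (S.M d)] at hf'
  have heq := hf'.symm.trans hd'
  set R := (layer ↥(S.M d)).map (S.M d).subtype with hR
  have h1 : S.M d ≤ Subgroup.normalizer (R : Set G) :=
    Subgroup.le_normalizer.trans (le_normalizer_map_subtype _)
  have h2 : S.M f ≤ Subgroup.normalizer (R : Set G) :=
    heq ▸ Subgroup.le_normalizer.trans (le_normalizer_map_subtype _)
  have hR0 : R = ⊥ := by
    refine S.core d hd R (Subgroup.normalizer_eq_top_iff.mp (top_unique ?_))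
      (Subgroup.map_subtype_le _)
    rcases (S.coatom d hd).le_iff.mp (le_sup_left : S.M d ≤ S.M d ⊔ S.M f) with h | h
    · exact h ▸ sup_le h1 h2
    · rcases (S.coatom f hf).le_iff.mp (le_sup_right.trans h.le : S.M f ≤ S.M d) with h' | h'
      · exact absurd h' (S.ne_top hd)
      · exact absurd h' hne
  rw [hR, Subgroup.map_eq_bot_iff_of_injective _ Subtype.coe_injective] at hR0
  have hC0 := centralizer_fStar_le (G := ↥(S.M d))
  rw [generalizedFittingSubgroup, hR0, hbot d hd, bot_sup_eq] at hC0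
  have hd1 : (⟨d, S.mem d hd⟩ : ↥(S.M d)) = 1 :=
    Subgroup.mem_bot.mp (hC0 (Subgroup.mem_centralizer_iff.mpr fun x hx => by
      rw [Subgroup.mem_bot.mp hx, one_mul, mul_one]))
  obtain ⟨x, hx, hx1⟩ := S.sink_ne d hd
  refine hx1 (eq_one_of_iterate (n := 1) hx ?_)
  have h : d = 1 := congrArg Subtype.val hd1
  simp [phi, h]

end H66.Sink
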