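import Cfsg.Agent.H13.Sink.Move
import Cfsg.Agent.H81.Fitting
import Cfsg.Prelude.Def_Amalgam

/-!
In a minimal counterexample without failing pairs a member acts nilpotently on the Fitting subgroup
of its cell.
-/

set_option autoImplicit false

namespace H66.Sink

open Cfsg Cfsg.Comp H13.Sink

universe u

variable {G : Type u} [Group G] [Finite G]

omit [Finite G] in
theorem pCoreOf_le' (p : ℕ) (H : Subgroup G) : pCoreOf p H ≤ H := Subgroup.map_subtype_le _

theorem pCoreOf_le_fitOf (p : ℕ) [Fact p.Prime] (H : Subgroup G) : pCoreOf p H ≤ fitOf H :=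
  Subgroup.map_mono (pCore_le_fitting p)

theorem pCoreOf_isPGroup' (p : ℕ) (H : Subgroup G) : IsPGroup p ↥(pCoreOf p H) :=
  (pCore_isPGroup p).map _

theorem fitOf_eq_iSup (H : Subgroup G) :
    fitOf H = ⨆ q : {q : ℕ // q.Prime}, pCoreOf (q : ℕ) H := by
  rw [fitOf, fitting_eq_iSup_pCore, Subgroup.map_iSup]
  rfl

theorem commute_of_mem_fitOf {H : Subgroup G} {a b : G} (ha : a ∈ fitOf H) (hb : b ∈ fitOf H)
    (hab : (orderOf a).Coprime (orderOf b)) : Commute a b := by
  obtain ⟨a', ha', rfl⟩ := ha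
  obtain ⟨b', hb', rfl⟩ := hb
  have h := H81.commute_of_coprime_orderOf fitting_isNilpotent
    (x := (⟨a', ha'⟩ : ↥(fittingSubgroup ↥H))) (y := ⟨b', hb'⟩)
    (by simpa [Subgroup.orderOf_coe, Subgroup.orderOf_mk] using hab)
  exact congrArg H.subtype (congrArg (fittingSubgroup ↥H).subtype h.eq)

theorem coprime_of_pCoreOf {p : ℕ} [Fact p.Prime] {H : Subgroup G} {v z : G}
    (hv : ¬ p ∣ orderOf v) (hz : z ∈ pCoreOf p H) : (orderOf v).Coprime (orderOf z) := by
  obtain ⟨k, hk⟩ := IsPGroup.iff_orderOf.mp (pCoreOf_isPGroup' p H) ⟨z, hz⟩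
  rw [Subgroup.orderOf_mk] at hk
  rw [hk]
  exact Nat.Coprime.pow_right k ((Fact.out : p.Prime).coprime_iff_not_dvd.2 hv).symm

/-- The powers of `x` of order prime to `q` centralise `O_q(M x)`. -/
theorem commute_pCoreOf (S : Sys G) (hN : S.NoFail) {x : G} (hx : x ∈ S.K) {q : ℕ}
    [Fact q.Prime] {v : G} (hv : v ∈ Subgroup.zpowers x) (hq : ¬ q ∣ orderOf v) {z : G}
    (hz : z ∈ pCoreOf q (S.M x)) : Commute v z := by
  have hvM : v ∈ S.M x := Subgroup.zpowers_le.2 (S.mem x hx) hv
  by_cases hC : Subgroup.centralizer ({v} : Set G) ≤ S.M x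
  · obtain ⟨f, hf, hne, hxf, hfx⟩ := S.exists_partner hx
    have hfF := S.foreign hN f hf x hx hfx (Ne.symm hne)
    have hxF := S.foreign hN x hx f hf hxf hne
    obtain ⟨g, rfl⟩ := S.trans x hx f hf
    have hgv : g * v * g⁻¹ ∈ Subgroup.zpowers (g * x * g⁻¹) := by
      obtain ⟨n, rfl⟩ := hv
      exact ⟨n, conj_zpow⟩
    have hord : orderOf (g * v * g⁻¹) = orderOf v := MulEquiv.orderOf_eq (MulAut.conj g) v
    have hOf : ∀ y ∈ pCoreOf q (S.M x), y ∈ S.M (g * x * g⁻¹) := by
      intro y hy
      have h1 := commute_of_mem_fitOf (Subgroup.zpowers_le.2 hfF hgv)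
        (pCoreOf_le_fitOf q _ hy) (coprime_of_pCoreOf (hord ▸ hq) hy)
      refine (S.mem_M_conj hx).2 (hC (Subgroup.mem_centralizer_singleton_iff.2 ?_))
      calc g⁻¹ * y * g * v = g⁻¹ * (y * (g * v * g⁻¹)) * g := by group
        _ = g⁻¹ * ((g * v * g⁻¹) * y) * g := by rw [h1.eq]
        _ = v * (g⁻¹ * y * g) := by group
    have hvF : v ∈ fitOf (S.M (g * x * g⁻¹)) := Subgroup.zpowers_le.2 hxF hv
    have hnormF : S.M (g * x * g⁻¹) ≤
        Subgroup.normalizer (fitOf (S.M (g * x * g⁻¹)) : Set G) :=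
      Subgroup.le_normalizer.trans (le_normalizer_map_subtype _)
    have hnormO : S.M x ≤ Subgroup.normalizer (pCoreOf q (S.M x) : Set G) :=
      Subgroup.le_normalizer.trans (le_normalizer_map_subtype _)
    set c := z * v * z⁻¹ * v⁻¹ with hc
    have hcF : c ∈ fitOf (S.M (g * x * g⁻¹)) :=
      mul_mem ((Subgroup.mem_normalizer_iff.1 (hnormF (hOf z hz)) v).1 hvF) (inv_mem hvF)
    have hcO : c ∈ pCoreOf q (S.M x) := by
      rw [show c = z * (v * z⁻¹ * v⁻¹) by rw [hc]; group]
      exact mul_mem hz ((Subgroup.mem_normalizer_iff.1 (hnormO hvM) _).1 (inv_mem hz))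
    have hcop := coprime_of_pCoreOf hq hcO
    have hcomm : Commute c v := commute_of_mem_fitOf hcF hvF hcop.symm
    have h2 : orderOf (c * v) = orderOf v := by
      rw [hc, inv_mul_cancel_right]
      exact MulEquiv.orderOf_eq (MulAut.conj z) v
    rw [hcomm.orderOf_mul_eq_mul_orderOf_of_coprime hcop.symm] at h2
    have h3 : orderOf c = 1 :=
      Nat.eq_of_mul_eq_mul_right (orderOf_pos v) (by rw [h2, one_mul])
    rw [orderOf_eq_one_iff, hc, mul_inv_eq_one, mul_inv_eq_iff_eq_mul] at h3
    exact h3.symm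
  · by_contra hvz
    have hCtop : Subgroup.centralizer ({v} : Set G) ≠ ⊤ := by
      intro htop
      have hcen : Subgroup.zpowers v ≤ Subgroup.center G := Subgroup.zpowers_le.2
        (Subgroup.mem_center_iff.2 fun y => Subgroup.mem_centralizer_singleton_iff.1
          (htop ▸ Subgroup.mem_top y : y ∈ Subgroup.centralizer ({v} : Set G)))
      have hbot := S.core x hx (Subgroup.zpowers v) ⟨fun a ha y => by
        rwa [Subgroup.mem_center_iff.1 (hcen ha) y, mul_inv_cancel_right]⟩
        (Subgroup.zpowers_le.2 hvM)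
      obtain rfl : v = 1 := Subgroup.zpowers_eq_bot.1 hbot
      exact hvz (Commute.one_left z)
    have hxC : x ∈ Subgroup.centralizer ({v} : Set G) := by
      refine Subgroup.mem_centralizer_singleton_iff.2 ?_
      obtain ⟨n, rfl⟩ := hv
      exact (Commute.self_zpow x n).eq
    obtain ⟨T, -, -, -, -, -, r, hr, -, hne, hrd, -, -⟩ := S.move hx hCtop hxC hC
    have hF := S.foreign hN (r * x * r⁻¹) (S.conj_mem x hx r) x hx hrd hne
    have hvr : v ∈ Subgroup.zpowers (r * x * r⁻¹) := by
      have h1 : r * v * r⁻¹ = v := by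
        rw [Subgroup.mem_centralizer_singleton_iff.1 hr, mul_inv_cancel_right]
      obtain ⟨n, rfl⟩ := hv
      exact ⟨n, conj_zpow.trans h1⟩
    exact hvz <| commute_of_mem_fitOf (Subgroup.zpowers_le.2 hF hvr) (pCoreOf_le_fitOf q _ hz)
      (coprime_of_pCoreOf hq hz)

/-- A member acts nilpotently on the Fitting subgroup of its cell. -/
theorem join (S : Sys G) (hN : S.NoFail) : S.Join := by
  intro x hx
  set F := fitOf (S.M x) with hF
  set W := F ⊔ Subgroup.zpowers x with hW
  have hFM : F ≤ S.M x := Subgroup.map_subtype_le _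
  have hWM : W ≤ S.M x := sup_le hFM (Subgroup.zpowers_le.2 (S.mem x hx))
  have hnorm : ∀ r : ℕ, S.M x ≤ Subgroup.normalizer (pCoreOf r (S.M x) : Set G) := fun r =>
    Subgroup.le_normalizer.trans (le_normalizer_map_subtype _)
  have hFn : (F.subgroupOf W).Normal := Subgroup.normal_subgroupOf_of_le_normalizer
    (hWM.trans (Subgroup.le_normalizer.trans (le_normalizer_map_subtype _)))
  have hFnil : Group.IsNilpotent ↥(F.subgroupOf W) := by
    refine @Group.nilpotent_of_mulEquiv _ _ _ _ fitting_isNilpotent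
      (((fittingSubgroup ↥(S.M x)).equivMapOfInjective (S.M x).subtype
        Subtype.coe_injective).trans (Subgroup.subgroupOfEquivOfLe le_sup_left).symm)
  set R := (fittingSubgroup ↥W).map W.subtype with hR
  have hFR : F ≤ R := by
    rw [← Subgroup.map_subgroupOf_eq_of_le (le_sup_left : F ≤ W)]
    exact Subgroup.map_mono (le_fittingSubgroup hFn hFnil)
  have hxR : Subgroup.zpowers x ≤ R := by
    refine le_of_forall_sylow_le fun r hr P => ?_
    have := Fact.mk hr
    set P' := (P : Subgroup ↥(Subgroup.zpowers x)).map (Subgroup.zpowers x).subtype with hP'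
    have hP'x : P' ≤ Subgroup.zpowers x := Subgroup.map_subtype_le _
    have hP'p : IsPGroup r ↥P' := P.2.map _
    set Q := pCoreOf r (S.M x) ⊔ P' with hQ
    have hQp : IsPGroup r ↥Q := by
      rw [hQ, sup_comm]
      exact hP'p.to_sup_of_normal_right' (pCoreOf_isPGroup' r _)
        ((hP'x.trans (Subgroup.zpowers_le.2 (S.mem x hx))).trans (hnorm r))
    have hQW : Q ≤ W := sup_le ((pCoreOf_le_fitOf r _).trans le_sup_left) (hP'x.trans le_sup_right)
    have hNQ : W ≤ Subgroup.normalizer (Q : Set G) := by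
      refine sup_le ?_ (Subgroup.zpowers_le.2 ?_)
      · rw [hF, fitOf_eq_iSup]
        refine iSup_le fun q => ?_
        have := Fact.mk q.2
        rcases eq_or_ne (q : ℕ) r with hqr | hqr
        · rw [hqr]; exact le_sup_left.trans Subgroup.le_normalizer
        · refine le_trans ?_ (Subgroup.centralizer_le_normalizer _)
          intro z hz
          have hcQ : Q ≤ Subgroup.centralizer ({z} : Set G) := by
            refine sup_le (fun y hy => ?_) (fun y hy => ?_) <;>
              refine Subgroup.mem_centralizer_singleton_iff.2 ?_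
            · refine (commute_of_mem_fitOf (pCoreOf_le_fitOf r _ hy) (pCoreOf_le_fitOf _ _ hz)
                (coprime_of_pCoreOf ?_ hz)).eq
              obtain ⟨k, hk⟩ := IsPGroup.iff_orderOf.mp (pCoreOf_isPGroup' r _) ⟨y, hy⟩
              rw [Subgroup.orderOf_mk] at hk
              rw [hk]
              exact fun h => hqr ((Nat.prime_dvd_prime_iff_eq q.2 hr).1 (q.2.dvd_of_dvd_pow h))
            · refine (commute_pCoreOf S hN hx (hP'x hy) ?_ hz).eq
              obtain ⟨k, hk⟩ := IsPGroup.iff_orderOf.mp hP'p ⟨y, hy⟩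
              rw [Subgroup.orderOf_mk] at hk
              rw [hk]
              exact fun h => hqr ((Nat.prime_dvd_prime_iff_eq q.2 hr).1 (q.2.dvd_of_dvd_pow h))
          exact Subgroup.mem_centralizer_iff.2 fun y hy =>
            (Subgroup.mem_centralizer_singleton_iff.1 (hcQ hy))
      · refine mem_normalizer_of_map_conj_eq ?_
        rw [hQ, Subgroup.map_sup, map_conj_eq_of_mem_normalizer (hnorm r (S.mem x hx)),
          map_conj_eq_of_mem_normalizer (Subgroup.centralizer_le_normalizer _ ?_)]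
        refine Subgroup.mem_centralizer_iff.2 fun y hy => ?_
        obtain ⟨n, rfl⟩ := hP'x hy
        exact (Commute.self_zpow x n).eq.symm
    have h1 : Q.subgroupOf W ≤ fittingSubgroup ↥W := by
      refine le_trans ?_ (pCore_le_fitting r)
      exact le_pCore (Subgroup.normal_subgroupOf_of_le_normalizer hNQ)
        (hQp.comap_of_injective W.subtype Subtype.coe_injective)
    refine le_trans le_sup_right (?_ : Q ≤ R)
    rw [← Subgroup.map_subgroupOf_eq_of_le hQW]
    exact Subgroup.map_mono h1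
  have htop : fittingSubgroup ↥W = ⊤ := by
    refine top_unique fun y _ => ?_
    obtain ⟨y', hy', he⟩ := (sup_le hFR hxR : W ≤ R) y.2
    exact Subtype.ext he ▸ hy'
  exact @Group.nilpotent_of_mulEquiv _ _ _ _ fitting_isNilpotent
    ((MulEquiv.subgroupCongr htop).trans Subgroup.topEquiv)

end H66.Sink
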